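import Groth.Agent.OmegaLib.SmoothCrit
import Groth.Agent.FibFlat.Scheme
import Groth.Agent.LocalDimBC.Scheme
import Groth.Agent.SmLocalST.SmoothField
import Groth.Agent.SpQS.TrdegQF
import Groth.Agent.SpRelDim.Trdeg
import Groth.Agent.UnivInjMor.MonoUnram
import Groth.Agent.LimDesc.FPCancel

/-!
# Monomorphisms between smooth schemes with equal fibre dimensions are flat
-/

set_option autoImplicit false
set_option backward.isDefEq.respectTransparency false
set_option linter.style.haveILetI false
universe u

open CategoryTheory AlgebraicGeometry Limits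

namespace Groth.Agent.MonoSmooth

theorem isField_stalk_Spec (K : Type u) [Field K] (p : Spec (CommRingCat.of K)) :
    IsField ((Spec.structureSheaf K).presheaf.stalk p) := by
  have e := (IsLocalization.atUnits K (p : PrimeSpectrum K).asIdeal.primeCompl
    (S := (Spec.structureSheaf K).presheaf.stalk p) ?_).toRingEquiv
  · exact MulEquiv.isField (Field.toIsField K) e.symm.toMulEquiv
  · intro x hx
    exact isUnit_iff_ne_zero.mpr fun h => hx (h ▸ (p : PrimeSpectrum K).asIdeal.zero_mem)

theorem fiber_stalk_of_mono {X Y : Scheme.{u}} (f : X ⟶ Y) [LocallyOfFinitePresentation f] [Mono f] (x : X) :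
    IsRegularLocalRing ((f.fiber (f x)).presheaf.stalk (f.asFiber x)) ∧
      ringKrullDim ((f.fiber (f x)).presheaf.stalk (f.asFiber x)) = 0 := by
  haveI : LocallyOfFinitePresentation (f.fiberToSpecResidueField (f x)) :=
    MorphismProperty.pullback_snd _ _ inferInstance
  haveI : Mono (f.fiberToSpecResidueField (f x)) :=
    MorphismProperty.pullback_snd (P := MorphismProperty.monomorphisms Scheme.{u}) _ _
      (MorphismProperty.monomorphisms.infer_property f)
  haveI := IsOpenImmersion.of_flat_of_mono (f.fiberToSpecResidueField (f x))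
  let e := (asIso ((f.fiberToSpecResidueField (f x)).stalkMap (f.asFiber x))).commRingCatIsoToRingEquiv
  have h : IsField ((f.fiber (f x)).presheaf.stalk (f.asFiber x)) :=
    MulEquiv.isField (isField_stalk_Spec (Y.residueField (f x)) _) e.symm.toMulEquiv
  letI := h.toField
  exact ⟨inferInstance, ringKrullDim_eq_zero_of_isField h⟩

/-- Over a field: a monomorphism between smooth schemes of the same local dimensions is flat. -/
theorem flat_of_mono_field {K : Type u} [Field K] {X Y : Scheme.{u}} (p : Y ⟶ Spec (CommRingCat.of K))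
    [Smooth p] (g : X ⟶ Y) [Smooth (g ≫ p)] [Mono g]
    (hdim : ∀ x, FlatMor.localDim X x = FlatMor.localDim Y (g x)) : Flat g := by
  haveI : LocallyOfFinitePresentation g :=
    LimDesc.lfp_of_comp g p
  haveI : FormallyUnramified g := inferInstance
  haveI : LocallyQuasiFinite g := UnivInjMor.lqf_of_unramified g
  haveI : IsLocallyNoetherian X := LocallyOfFiniteType.isLocallyNoetherian (g ≫ p)
  refine (Flat.iff_flat_stalkMap g).mpr fun x => ?_
  obtain ⟨hF, hF0⟩ := fiber_stalk_of_mono g x
  refine OmegaLib.flat_of_regular_fiber g x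
    (SmLocalST.isRegularLocalRing_stalk_of_smooth_field p (g x)) hF ?_
  rw [hF0, zero_add]
  obtain ⟨bY, δY, hbY, hDY, hδY, -⟩ := CMChart.localDim_field_eq p (g x)
  obtain ⟨bX, δX, hbX, hDX, hδX, -⟩ := CMChart.localDim_field_eq (g ≫ p) x
  have hδ : δX = δY := by
    have h1 : Dual3.resTrdeg (g ≫ p) x = (δX : Cardinal.{u}) := hδX
    have h2 : Dual3.resTrdeg p (g x) = (δY : Cardinal.{u}) := hδY
    rw [SpQS.resTrdeg_precomp g p (g.quasiFiniteAt x), h2] at h1
    exact_mod_cast h1.symm
  have h := hdim x
  rw [hDX, hDY, hδ] at h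
  have hb : bX = bY := by
    have h' : bX + δY = bY + δY := by exact_mod_cast h
    omega
  rw [hbX, hbY, hb]

/-- A monomorphism between smooth schemes with equal fibre dimensions is flat. -/
theorem flat_of_mono {X Y S : Scheme.{u}} (f : Y ⟶ S) (h : X ⟶ S) [Smooth f] [Smooth h] (g : X ⟶ Y)
    (w : g ≫ f = h) [Mono g] (hdim : ∀ x, FlatMor.fibreDimAt f (g x) = FlatMor.fibreDimAt h x) : Flat g := by
  refine FibFlat.flat_of_smooth h f g w fun T y L _ a b hab => ?_
  let pY := pullback.snd f b
  have sqX : IsPullback (pullback.fst g (pullback.fst f b)) (pullback.snd g (pullback.fst f b) ≫ pY) h b :=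
    w ▸ (IsPullback.of_hasPullback g (pullback.fst f b)).paste_vert (IsPullback.of_hasPullback f b)
  haveI : Smooth pY := MorphismProperty.pullback_snd _ _ inferInstance
  haveI : Smooth (pullback.snd g (pullback.fst f b) ≫ pY) :=
    MorphismProperty.of_isPullback (P := @Smooth) sqX ‹_›
  haveI : Mono (pullback.snd g (pullback.fst f b)) := inferInstance
  haveI hfl : Flat (pullback.snd g (pullback.fst f b)) := by
    refine flat_of_mono_field pY _ fun z => ?_
    rw [← CMChart.fibreDimAt_eq_localDim (pullback.snd g (pullback.fst f b) ≫ pY) z,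
      LocalDimBC.fibreDimAt_of_isPullback h b _ _ sqX z, ← hdim,
      ← CMChart.fibreDimAt_eq_localDim pY, LocalDimBC.fibreDimAt_of_isPullback f b _ _
        (IsPullback.of_hasPullback f b) _]
    congr 1
    exact congrArg (fun k => k z) (pullback.condition (f := g) (g := pullback.fst f b))
  let y' : T ⟶ pullback f b := pullback.lift y a hab.symm
  have hy : y' ≫ pullback.fst f b = y := pullback.lift_fst _ _ _
  have sq : IsPullback (pullback.fst y' (pullback.snd g (pullback.fst f b)))
      (pullback.snd y' (pullback.snd g (pullback.fst f b)) ≫ pullback.fst g (pullback.fst f b)) y g :=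
    hy ▸ ((IsPullback.of_hasPullback y' (pullback.snd g (pullback.fst f b))).flip.paste_horiz
      (IsPullback.of_hasPullback g (pullback.fst f b))).flip
  haveI : Flat (pullback.fst y' (pullback.snd g (pullback.fst f b))) :=
    MorphismProperty.pullback_fst _ _ hfl
  rw [← (IsPullback.isoIsPullback_inv_fst _ _ sq (IsPullback.of_hasPullback y g))]
  infer_instance

end Groth.Agent.MonoSmooth
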